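import Mathlib
import Cfsg.Agent.Lib.Forms.Max.OrthInLinear

/-!
# Hyperbolic frames of a conic and the similarity criterion
-/

set_option autoImplicit false
set_option linter.unusedSectionVars false

namespace Cfsg.Agent.Forms.Max.SL3.Orth

open Matrix Cfsg.Agent.Aschbacher
open Cfsg.Agent.Forms.Max.OrthInLinear (add_l add_r sub_l sub_r smul_l smul_r zero_l zero_r self2
  form mem_perp_span exists_repr le_finrank_perp)

variable {F : Type*} [Field F] [Fintype F] {ι : Type} [Fintype ι] [DecidableEq ι]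
variable {Q : QuadraticForm F (ι → F)}

local notation "Vec" => (ι → F)
local notation "B" => QuadraticMap.polar Q

theorem comm (x y : Vec) : B x y = B y x := QuadraticMap.polar_comm _ x y

/-- a hyperbolic pair with a perpendicular vector -/
structure Frame (Q : QuadraticForm F (ι → F)) where
  s : ι → F
  t : ι → F
  e : ι → F
  qs : Q s = 0
  qt : Q t = 0
  qe : Q e ≠ 0
  st : QuadraticMap.polar Q s t = 1
  se : QuadraticMap.polar Q s e = 0
  te : QuadraticMap.polar Q t e = 0
  two : (2 : F) ≠ 0
  expand : ∀ x : ι → F, x = QuadraticMap.polar Q x t • s + QuadraticMap.polar Q x s • t +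
    (QuadraticMap.polar Q x e / (2 * Q e)) • e

namespace Frame

variable (f : Frame Q)

theorem s0 : f.s ≠ 0 := fun h => by
  have := f.st; rw [h, zero_l] at this; exact zero_ne_one this

theorem ss : B f.s f.s = 0 := by rw [self2, f.qs, mul_zero]

theorem tt : B f.t f.t = 0 := by rw [self2, f.qt, mul_zero]

theorem ee : B f.e f.e = 2 * Q f.e := self2 _

theorem ts : B f.t f.s = 1 := by rw [comm, f.st]

theorem es : B f.e f.s = 0 := by rw [comm, f.se]

theorem et : B f.e f.t = 0 := by rw [comm, f.te]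

/-- rows agreeing on the frame are equal -/
theorem row_ext {φ ψ : Vec} (h1 : φ ⬝ᵥ f.s = ψ ⬝ᵥ f.s) (h2 : φ ⬝ᵥ f.t = ψ ⬝ᵥ f.t)
    (h3 : φ ⬝ᵥ f.e = ψ ⬝ᵥ f.e) : φ = ψ :=
  dotProduct_eq _ _ fun x => by
    rw [f.expand x]
    simp only [dotProduct_add, dotProduct_smul, h1, h2, h3]

/-- a point of the conic off the two base points -/
theorem qpoint {x y : F} (h : x * y = -Q f.e) : Q (x • f.s + y • f.t + f.e) = 0 := by
  simp only [Classical.Orth.map_add', Classical.Orth.map_smul', add_l, smul_l, smul_r, f.qs, f.qt, f.st, f.se, f.te]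
  linear_combination h

end Frame

variable (hQ : (QuadraticMap.polarBilin Q).Nondegenerate)
include hQ

/-- every singular vector starts a frame -/
theorem exists_frame (h2 : (2 : F) ≠ 0) (hι : Fintype.card ι = 3) {s : Vec} (hs0 : s ≠ 0) (hs : Q s = 0) :
    ∃ f : Frame Q, f.s = s := by
  obtain ⟨w, hw⟩ := Orth.exists_ne hQ hs0
  set w' := (B s w)⁻¹ • w with hw'd
  have hw' : B s w' = 1 := by rw [hw'd, smul_r, inv_mul_cancel₀ hw]
  clear_value w'
  set t := w' - Q w' • s
  have hss : B s s = 0 := by rw [self2, hs, mul_zero]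
  have hst : B s t = 1 := by rw [show t = w' - Q w' • s from rfl, sub_r, hw', smul_r, hss, mul_zero, sub_zero]
  have hqt : Q t = 0 := by
    simp only [t, sub_eq_add_neg, ← neg_smul, Classical.Orth.map_add', Classical.Orth.map_smul', smul_r, hs,
      comm w' s, hw']
    ring
  have htt : B t t = 0 := by rw [self2, hqt, mul_zero]
  obtain ⟨e, he, he0⟩ : ∃ e ∈ Orth.perp Q (Submodule.span F (Set.range ![s, t])), e ≠ 0 := by
    refine (Submodule.ne_bot_iff _).1 fun h => ?_
    have := le_finrank_perp hQ ![s, t]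
    rw [h, finrank_bot] at this
    omega
  have hes : B e s = 0 := mem_perp_span.1 he 0
  have het : B e t = 0 := mem_perp_span.1 he 1
  have hlin : LinearIndependent F ![s, t, e] := by
    rw [Fintype.linearIndependent_iff]
    intro g hg
    rw [Fin.sum_univ_three] at hg
    simp only [Matrix.cons_val_zero, Matrix.cons_val_one, Matrix.cons_val_two, Matrix.head_cons, Matrix.tail_cons] at hg
    have a := congrArg (fun v => B v t) hg
    have b := congrArg (fun v => B v s) hg
    simp only [add_l, smul_l, hst, htt, het, hss, hes, comm t s, zero_l, mul_zero, mul_one, add_zero, zero_add] at a b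
    rw [a, b, zero_smul, zero_smul, zero_add, zero_add] at hg
    intro i
    fin_cases i
    · exact a
    · exact b
    · exact (smul_eq_zero.1 hg).resolve_right he0
  have hspan := hlin.span_eq_top_of_card_eq_finrank (by rw [Module.finrank_fintype_fun_eq_card, hι]; rfl)
  have hdec : ∀ x : Vec, ∃ α β γ : F, x = α • s + β • t + γ • e := fun x => by
    obtain ⟨c, hc⟩ := Submodule.mem_span_range_iff_exists_fun F |>.1 (hspan ▸ Submodule.mem_top : x ∈ _)
    rw [Fin.sum_univ_three] at hc
    exact ⟨c 0, c 1, c 2, hc.symm⟩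
  have hqe : Q e ≠ 0 := fun h => he0 (hQ.1 e fun x => by
    obtain ⟨α, β, γ, rfl⟩ := hdec x
    show B e _ = 0
    simp [add_r, smul_r, hes, het, self2, h])
  refine ⟨⟨s, t, e, hs, hqt, hqe, hst, by rw [comm, hes], by rw [comm, het], h2, fun x => ?_⟩, rfl⟩
  obtain ⟨α, β, γ, rfl⟩ := hdec x
  simp only [add_l, smul_l, hst, hss, htt, hes, het, comm s e, comm t e, self2 e, comm t s, mul_zero, mul_one,
    add_zero, zero_add]
  rw [mul_div_cancel_right₀ _ (mul_ne_zero h2 hqe)]

/-- a map keeping the conic is a similarity -/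
theorem similarity_of_sing (f : Frame Q) (g : GL ι F)
    (hc : ∀ x, Q x = 0 → Q ((g : Matrix ι ι F) *ᵥ x) = 0) :
    ∃ c : Fˣ, ∀ v, Q ((g : Matrix ι ι F) *ᵥ v) = (c : F) * Q v := by
  classical
  set G : Vec →ₗ[F] Vec := Matrix.toLin' (g : Matrix ι ι F) with hG
  have hGa : ∀ x, G x = (g : Matrix ι ι F) *ᵥ x := fun x => Matrix.toLin'_apply _ _
  set k := Q f.e with hk
  set A := B (G f.s) (G f.t) with hA
  set C := Q (G f.e) with hC
  set D := B (G f.s) (G f.e) with hD
  set E := B (G f.t) (G f.e) with hE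
  have hs : Q (G f.s) = 0 := by rw [hGa]; exact hc _ f.qs
  have ht : Q (G f.t) = 0 := by rw [hGa]; exact hc _ f.qt
  have hk0 : k ≠ 0 := f.qe
  have hgen : ∀ α β γ : F, Q (G (α • f.s + β • f.t + γ • f.e)) =
      α * β * A + γ * γ * C + α * γ * D + β * γ * E := by
    intro α β γ
    simp only [map_add, map_smul, Classical.Orth.map_add', Classical.Orth.map_smul', add_l, smul_l, smul_r, hs, ht,
      ← hA, ← hC, ← hD, ← hE]
    ring
  have heq : ∀ x : F, x ≠ 0 → D * x * x + (C - A * k) * x - E * k = 0 := fun x hx => by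
    have h := hc _ (f.qpoint (x := x) (y := -(k / x)) (by rw [← hk]; field_simp))
    rw [← hGa, ← one_smul F f.e, hgen] at h
    field_simp at h
    linear_combination h
  have e1 := heq 1 one_ne_zero
  have e2 := heq (-1) (neg_ne_zero.2 one_ne_zero)
  have hCA : C = A * k := by
    have : (2 : F) * (C - A * k) = 0 := by linear_combination e1 - e2
    exact sub_eq_zero.1 ((mul_eq_zero.1 this).resolve_left f.two)
  have hDE : D = E * k := by linear_combination e1 - hCA
  have hD0 : D = 0 := by
    by_contra hD'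
    have hsq : ∀ x : F, x ≠ 0 → x * x = 1 := fun x hx => by
      have h := heq x hx
      have : D * (x * x - 1) = 0 := by linear_combination h - x * hCA - hDE
      exact sub_eq_zero.1 ((mul_eq_zero.1 this).resolve_left hD')
    have hE0 : E ≠ 0 := fun e => hD' (by rw [hDE, e, zero_mul])
    -- a vector in the radical of the pulled back form
    obtain ⟨x, y, z, h1, h2, h3, hne⟩ : ∃ x y z : F, y * A + z * D = 0 ∧ x * A + z * E = 0 ∧
        x * D + y * E + 2 * C * z = 0 ∧ ¬ (x = 0 ∧ y = 0 ∧ z = 0) := by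
      by_cases hA0 : A = 0
      · refine ⟨E, -D, 0, by simp [hA0], by simp [hA0], by ring, fun h => hE0 h.1⟩
      · refine ⟨-(E / A), -(D / A), 1, by field_simp; ring, by field_simp; ring, ?_, fun h => one_ne_zero h.2.2⟩
        field_simp
        linear_combination 2 * A * hCA + 2 * k * hsq A hA0 - 2 * E * hDE - 2 * k * hsq E hE0
    set r := x • f.s + y • f.t + z • f.e with hr
    have hrad : G r = 0 := hQ.1 _ fun w => by
      show B (G r) w = 0
      set v := ((g⁻¹ : GL ι F) : Matrix ι ι F) *ᵥ w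
      have hv : G v = w := by rw [hGa, mulVec_inv_cancel]
      rw [← hv, f.expand v, hr]
      simp only [map_add, map_smul, add_l, add_r, smul_l, smul_r, comm (G f.t) (G f.s), comm (G f.e) (G f.s),
        comm (G f.e) (G f.t), self2 (G f.s), self2 (G f.t), self2 (G f.e), hs, ht, ← hA, ← hC, ← hD, ← hE]
      linear_combination (QuadraticMap.polar Q v f.t) * h1 + (QuadraticMap.polar Q v f.s) * h2 +
        (QuadraticMap.polar Q v f.e / (2 * Q f.e)) * h3
    have hr0 : r = 0 := mulVec_inj g (by rw [← hGa, hrad, mulVec_zero])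
    refine hne ?_
    have a1 := congrArg (fun v => B v f.t) hr0
    have a2 := congrArg (fun v => B v f.s) hr0
    have a3 := congrArg (fun v => B v f.e) hr0
    simp only [hr, add_l, smul_l, f.st, f.ts, f.ss, f.tt, f.se, f.te, f.es, f.et, f.ee, zero_l, mul_zero, mul_one,
      add_zero, zero_add] at a1 a2 a3
    exact ⟨a1, a2, (mul_eq_zero.1 a3).resolve_right (mul_ne_zero f.two f.qe)⟩
  have hE0 : E = 0 := (mul_eq_zero.1 (show E * k = 0 by rw [← hDE, hD0])).resolve_right hk0
  have hall : ∀ v, Q (G v) = A * Q v := fun v => by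
    rw [f.expand v, hgen, hD0, hE0, hCA]
    simp only [Classical.Orth.map_add', Classical.Orth.map_smul', add_l, smul_l, smul_r, f.qs, f.qt, f.st, f.se, f.te]
    ring
  have hA0 : A ≠ 0 := fun h => f.qe (by
    have h' := hall (((g⁻¹ : GL ι F) : Matrix ι ι F) *ᵥ f.e)
    rwa [hGa, mulVec_inv_cancel, h, zero_mul] at h')
  exact ⟨Units.mk0 A hA0, fun v => by rw [← hGa, hall]; rfl⟩

end Cfsg.Agent.Forms.Max.SL3.Orth
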