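import Mathlib
import Cfsg.Agent.Lib.Forms.Max.SL3.Orth.Frame
import Cfsg.Agent.Lib.Forms.Reflections

/-!
# Root elements above a conic group

An overgroup contains the negated reflections and the Eichler elements.  A transvection with singular centre whose
row is not that of the tangent gives all transvections with that centre.
-/

set_option autoImplicit false
set_option linter.unusedSectionVars false

namespace Cfsg.Agent.Forms.Max.SL3.Orth

open Matrix Cfsg.Agent.Aschbacher Cfsg.Agent.Forms.Max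
open Cfsg.Agent.Forms.Max.OrthInLinear (add_l add_r sub_l sub_r smul_l smul_r zero_l zero_r self2)

variable {F : Type*} [Field F] [Fintype F] {ι : Type} [Fintype ι] [DecidableEq ι]
variable {Q : QuadraticForm F (ι → F)}

local notation "Vec" => (ι → F)
local notation "B" => QuadraticMap.polar Q

/-- the negated reflections and the Eichler elements -/
structure Has (Q : QuadraticForm F (ι → F)) (M : Subgroup (GL ι F)) : Prop where
  neg_refl : ∀ a, Q a ≠ 0 → ∃ g ∈ M, ∀ x,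
    (g : Matrix ι ι F) *ᵥ x = ((Q a)⁻¹ * QuadraticMap.polar Q a x) • a - x
  eichler : ∀ u w : ι → F, Q u = 0 → QuadraticMap.polar Q u w = 0 → ∃ g ∈ M, ∀ x,
    (g : Matrix ι ι F) *ᵥ x = x + QuadraticMap.polar Q x u • w -
      (QuadraticMap.polar Q x w + Q w * QuadraticMap.polar Q x u) • u

/-- transvection -/
def Rt (M : Subgroup (GL ι F)) (u φ : Vec) : Prop :=
  φ ⬝ᵥ u = 0 ∧ ∃ g ∈ M, ∀ x : Vec, (g : Matrix ι ι F) *ᵥ x = x + (φ ⬝ᵥ x) • u

variable {M : Subgroup (GL ι F)}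

theorem rt_add {u φ ψ : Vec} (h : Rt M u φ) (h' : Rt M u ψ) : Rt M u (φ + ψ) := by
  obtain ⟨hd, g, hg, e⟩ := h
  obtain ⟨hd', g', hg', e'⟩ := h'
  refine ⟨by rw [add_dotProduct, hd, hd', add_zero], g * g', mul_mem hg hg', fun x => ?_⟩
  rw [mulVec_mul_GL, e', e, dotProduct_add, dotProduct_smul, hd, smul_zero, add_zero, add_dotProduct]
  module

theorem rt_neg {u φ : Vec} (h : Rt M u φ) : Rt M u (-φ) := by
  obtain ⟨hd, g, hg, e⟩ := h
  refine ⟨by rw [neg_dotProduct, hd, neg_zero], g⁻¹, inv_mem hg, fun x => mulVec_inj g ?_⟩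
  rw [mulVec_inv_cancel, e, dotProduct_add, dotProduct_smul, hd, smul_zero, add_zero, neg_dotProduct]
  module

theorem rt_sub {u φ ψ : Vec} (h : Rt M u φ) (h' : Rt M u ψ) : Rt M u (φ - ψ) :=
  sub_eq_add_neg φ ψ ▸ rt_add h (rt_neg h')

theorem rt_conj {u φ : Vec} (h : Rt M u φ) {k : GL ι F} (hk : k ∈ M) :
    Rt M ((k : Matrix ι ι F) *ᵥ u) (φ ᵥ* ((k⁻¹ : GL ι F) : Matrix ι ι F)) := by
  obtain ⟨hd, g, hg, e⟩ := h
  refine ⟨by rw [← dotProduct_mulVec, inv_mulVec_cancel, hd], k * g * k⁻¹,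
    mul_mem (mul_mem hk hg) (inv_mem hk), fun x => ?_⟩
  rw [mulVec_mul_GL, mulVec_mul_GL, e, mulVec_add, mulVec_smul, mulVec_inv_cancel, dotProduct_mulVec]

variable (hM : Has Q M) (f : Frame Q)
include hM

/-- the unipotent elements of the frame, by their action and their inverse -/
theorem exists_unip (c : F) : ∃ k ∈ M, (k : Matrix ι ι F) *ᵥ f.s = f.s ∧
    ((k⁻¹ : GL ι F) : Matrix ι ι F) *ᵥ f.s = f.s ∧
    ((k⁻¹ : GL ι F) : Matrix ι ι F) *ᵥ f.e = f.e + (2 * c * Q f.e) • f.s ∧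
    ((k⁻¹ : GL ι F) : Matrix ι ι F) *ᵥ f.t = f.t - c • f.e - (c * c * Q f.e) • f.s := by
  obtain ⟨k, hk, e⟩ := hM.eichler f.s (c • f.e) f.qs (by rw [smul_r, f.se, mul_zero])
  have es : (k : Matrix ι ι F) *ᵥ f.s = f.s := by
    simp [e, f.ss, smul_r, f.se]
  refine ⟨k, hk, es, mulVec_inj k (by rw [mulVec_inv_cancel, es]), mulVec_inj k ?_, mulVec_inj k ?_⟩
  · rw [mulVec_inv_cancel, e]
    simp only [add_l, smul_l, smul_r, f.es, f.ss, f.se, f.ee, Classical.Orth.map_smul']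
    module
  · rw [mulVec_inv_cancel, e]
    simp only [sub_l, smul_l, smul_r, f.ts, f.es, f.ss, f.te, f.se, f.ee, Classical.Orth.map_smul']
    module

/-- the torus of the frame -/
theorem exists_torus {l : F} (hl : l ≠ 0) : ∃ k ∈ M, (k : Matrix ι ι F) *ᵥ f.s = l • f.s ∧
    ((k⁻¹ : GL ι F) : Matrix ι ι F) *ᵥ f.e = f.e ∧ ((k⁻¹ : GL ι F) : Matrix ι ι F) *ᵥ f.t = l • f.t := by
  have ha : ∀ r : F, Q (f.s - r • f.t) = -r := fun r => by
    rw [sub_eq_add_neg, ← neg_smul, Classical.Orth.map_add', Classical.Orth.map_smul', smul_r, f.qs, f.qt, f.st]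
    ring
  obtain ⟨g₁, hg₁, e₁⟩ := hM.neg_refl (f.s - (1 : F) • f.t) (by rw [ha]; exact neg_ne_zero.2 one_ne_zero)
  obtain ⟨g₂, hg₂, e₂⟩ := hM.neg_refl (f.s - l • f.t) (by rw [ha]; exact neg_ne_zero.2 hl)
  refine ⟨g₁ * g₂, mul_mem hg₁ hg₂, ?_, mulVec_inj (g₁ * g₂) ?_, mulVec_inj (g₁ * g₂) ?_⟩
  · rw [mulVec_mul_GL, e₂, ha, e₁, ha]
    simp only [sub_l, sub_r, smul_l, smul_r, f.ss, f.tt, f.st, f.ts]
    match_scalars <;> field_simp <;> ring
  · rw [mulVec_inv_cancel, mulVec_mul_GL, e₂, ha, e₁, ha]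
    simp only [sub_l, sub_r, smul_l, smul_r, f.se, f.te, f.es, f.et, f.ss, f.tt, f.st, f.ts]
    match_scalars <;> field_simp <;> ring
  · rw [mulVec_inv_cancel, mulVec_mul_GL, e₂, ha, e₁, ha]
    simp only [sub_l, sub_r, smul_l, smul_r, f.ss, f.tt, f.st, f.ts]
    match_scalars <;> field_simp <;> ring

/-- one root off the tangent gives the whole centre -/
theorem centre_of_root {ψ : Vec} (h : Rt M f.s ψ) (he : ψ ⬝ᵥ f.e ≠ 0) : f.s ∈ centres M := by
  classical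
  let P : F → F → Prop := fun a b => ∃ φ, Rt M f.s φ ∧ φ ⬝ᵥ f.e = a ∧ φ ⬝ᵥ f.t = b
  have hadd : ∀ {a b a' b' : F}, P a b → P a' b' → P (a + a') (b + b') := by
    rintro a b a' b' ⟨φ, h1, rfl, rfl⟩ ⟨φ', h1', rfl, rfl⟩
    exact ⟨φ + φ', rt_add h1 h1', add_dotProduct _ _ _, add_dotProduct _ _ _⟩
  have hsub : ∀ {a b a' b' : F}, P a b → P a' b' → P (a - a') (b - b') := by
    rintro a b a' b' ⟨φ, h1, rfl, rfl⟩ ⟨φ', h1', rfl, rfl⟩
    exact ⟨φ - φ', rt_sub h1 h1', sub_dotProduct _ _ _, sub_dotProduct _ _ _⟩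
  have hU : ∀ {a b : F} (c : F), P a b → P a (b - c * a) := by
    rintro a b c ⟨φ, h1, rfl, rfl⟩
    obtain ⟨k, hk, ks, -, ke, kt⟩ := exists_unip hM f c
    have h2 := rt_conj h1 hk
    rw [ks] at h2
    refine ⟨_, h2, ?_, ?_⟩
    · rw [← dotProduct_mulVec, ke, dotProduct_add, dotProduct_smul, h1.1, smul_zero, add_zero]
    · rw [← dotProduct_mulVec, kt, dotProduct_sub, dotProduct_sub, dotProduct_smul, dotProduct_smul, h1.1,
        smul_zero, sub_zero, smul_eq_mul]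
  have hT : ∀ {a b : F} (l : F), l ≠ 0 → P a b → P (l * a) (l * (l * b)) := by
    rintro a b l hl ⟨φ, h1, rfl, rfl⟩
    obtain ⟨k, hk, ks, ke, kt⟩ := exists_torus hM f hl
    obtain ⟨h3, g, hg, e⟩ := rt_conj h1 hk
    rw [ks] at e h3
    refine ⟨l • (φ ᵥ* ((k⁻¹ : GL ι F) : Matrix ι ι F)), ⟨?_, g, hg, fun x => ?_⟩, ?_, ?_⟩
    · rw [smul_dotProduct, ← dotProduct_smul]; exact h3
    · rw [e, smul_dotProduct, smul_smul, smul_eq_mul, mul_comm]
    · rw [smul_dotProduct, ← dotProduct_mulVec, ke, smul_eq_mul]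
    · rw [smul_dotProduct, ← dotProduct_mulVec, kt, dotProduct_smul, smul_eq_mul, smul_eq_mul]
  have hP : P (ψ ⬝ᵥ f.e) (ψ ⬝ᵥ f.t) := ⟨ψ, h, rfl, rfl⟩
  have h0 : ∀ b, P 0 b := fun b => by
    have := hsub hP (hU (b / (ψ ⬝ᵥ f.e)) hP)
    rwa [sub_self, sub_sub_cancel, div_mul_cancel₀ _ he] at this
  have h1 : P (ψ ⬝ᵥ f.e) 0 := by
    have := hadd hP (h0 (-(ψ ⬝ᵥ f.t)))
    rwa [add_zero, add_neg_cancel] at this
  have hall : ∀ a b, P a b := fun a b => by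
    rcases eq_or_ne a 0 with rfl | ha
    · exact h0 b
    have h2 := hT (a / (ψ ⬝ᵥ f.e)) (div_ne_zero ha he) h1
    rw [div_mul_cancel₀ _ he, mul_zero, mul_zero] at h2
    have := hadd h2 (h0 b)
    rwa [add_zero, zero_add] at this
  intro φ hφ
  obtain ⟨φ', ⟨hd, g, hg, e⟩, h2, h3⟩ := hall (φ ⬝ᵥ f.e) (φ ⬝ᵥ f.t)
  have hφφ : φ' = φ := f.row_ext (hd.trans hφ.symm) h3 h2
  subst hφφ
  convert hg using 1
  exact gl_ext fun x => by rw [trv_mulVec, e]

end Cfsg.Agent.Forms.Max.SL3.Orth
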